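import Mathlib
import Cfsg.Agent.H50.RG.LStmts
import Cfsg.Agent.H440.Bs.Glue

/-!
# UX (S5716, unbounded rank): definitions (helper141)

`V` is a space of large dimension over a finite field `F`, `Φ` a form, `G ≤ GL(V)` the group.

* `Kl Φ G N t` : `G` is `Sp`, `SU` or `Ω`; `N` is the number of values of the norm (`1`, `r`, `|F|`), `t` the field parameter
  (`|F|`, `r`, `|F|`);
* `Pp F e m` : `m > 2 e + 1` divides `q ^ e - 1` and is prime to `p ^ j - 1` for all `j < e f`, `q = p ^ f`;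
* `StE`, `StA`, `StL` : the power `z` of `y` is irreducible on the block `E` (resp. on `A` and `A'`, resp. on `E`) and trivial on the
  complement;
* `GPF`, `GPL` : two blocks and `x` are in general position;
* `Ud`, `par` : parity of the dimensions of the blocks.
-/

set_option autoImplicit false

namespace Cfsg.Agent.H141.Ux

open Module Cfsg.Agent.H847.Bs Cfsg.Agent.LieClassical.OrthCore
open Cfsg.Agent.H440.Bs (perp mem_perp)

section

variable {F V : Type*} [Field F] [AddCommGroup V] [Module F V]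

/-- scalar maps -/
def Sca (x : V ≃ₗ[F] V) : Prop := ∃ c : F, ∀ v, x v = c • v

/-- the groups with a form -/
def Kl (Φ : Frm F V) (G : Subgroup (V ≃ₗ[F] V)) (N t : ℕ) : Prop :=
  (IsSp Φ ∧ G = Φ.Iso ∧ N = 1 ∧ t = Nat.card F) ∨
  (∃ r, IsHerm r Φ ∧ G = Φ.Iso ⊓ slV F V ∧ N = r ∧ t = r) ∨
  (∃ Q : QuadraticForm F V, (frmQ Q).Nd ∧ Φ = frmQ Q ∧ G = E Q ∧ N = Nat.card F ∧ t = Nat.card F)

/-- parity of the dimension `e` of a nondegenerate block with irreducible isometries: even for `Sp` and `Ω`, odd for `SU` -/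
def ParE (Φ : Frm F V) (e : ℕ) : Prop :=
  ((IsSp Φ ∨ ∃ Q : QuadraticForm F V, Φ = frmQ Q) ∧ Even e) ∨ ((∃ r, IsHerm r Φ) ∧ Odd e)

/-- parity of the dimension of a totally isotropic block, which is not isomorphic to its dual: odd for `Sp` and `Ω`, even for
`SU` -/
def ParA (Φ : Frm F V) (e : ℕ) : Prop :=
  ((IsSp Φ ∨ ∃ Q : QuadraticForm F V, Φ = frmQ Q) ∧ Odd e) ∨ ((∃ r, IsHerm r Φ) ∧ Even e)

/-- `m > 2 e + 1` divides `q ^ e - 1` and all its prime divisors `r` satisfy `ord_r(p) = e f`, `q = p ^ f` -/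
def Pp (F : Type*) [Field F] (e m : ℕ) : Prop :=
  2 * e + 1 < m ∧ m ∣ Nat.card F ^ e - 1 ∧ ∀ r : ℕ, r.Prime → r ∣ m → ∀ f : ℕ, Nat.card F = ringChar F ^ f →
    orderOf ((ringChar F : ℕ) : ZMod r) = e * f

/-- all prime divisors `r` of `m ≠ 1` satisfy `ord_r(q) = e` -/
def Pq (F : Type*) [Field F] (e m : ℕ) : Prop :=
  m ≠ 1 ∧ ∀ r : ℕ, r.Prime → r ∣ m → orderOf ((Nat.card F : ℕ) : ZMod r) = e

/-- nondegenerate irreducible block `E` of `y`, with a power `z` of `y` which is irreducible on `E` and trivial on `E^⊥` -/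
structure StE (Φ : Frm F V) (e : ℕ) (y : V ≃ₗ[F] V) (E : Submodule F V) (z : V ≃ₗ[F] V) : Prop where
  mem : z ∈ Subgroup.zpowers y
  nd : Φ.NdOn E
  dim : finrank F E = e
  inv : Inv y E
  fix : ∀ v ∈ perp Φ E, z v = v
  irr : ∀ W ≤ E, Inv z W → W = ⊥ ∨ W = E
  fpf : ∀ v ∈ E, z v = v → v = 0
  ord : Pp F e (orderOf z)

/-- block `A ⊕ A'` of `y`, `A` and `A'` totally isotropic, irreducible and not isomorphic under the power `z` of `y`, which is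
trivial on `(A ⊕ A')^⊥` -/
structure StA (Φ : Frm F V) (e : ℕ) (y : V ≃ₗ[F] V) (A A' : Submodule F V) (z : V ≃ₗ[F] V) : Prop where
  mem : z ∈ Subgroup.zpowers y
  ti : Φ.TI A
  ti' : Φ.TI A'
  dim : finrank F A = e
  dim' : finrank F A' = e
  disj : Disjoint A A'
  nd : Φ.NdOn (A ⊔ A')
  inv : Inv y A
  inv' : Inv y A'
  fix : ∀ v ∈ perp Φ (A ⊔ A'), z v = v
  irr : ∀ W ≤ A, Inv z W → W = ⊥ ∨ W = A
  irr' : ∀ W ≤ A', Inv z W → W = ⊥ ∨ W = A'
  fpf : ∀ v ∈ A ⊔ A', z v = v → v = 0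
  hom : ∀ φ : A →ₗ[F] A', (∀ (a : A) (h : z a ∈ A), ((φ ⟨z a, h⟩ : A') : V) = z (φ a)) → φ = 0
  ord : Pq F e (orderOf z)

/-- linear case: irreducible block `E` of `y` with the invariant complement `C` -/
structure StL (e : ℕ) (y : V ≃ₗ[F] V) (E C : Submodule F V) (z : V ≃ₗ[F] V) : Prop where
  mem : z ∈ Subgroup.zpowers y
  compl : IsCompl E C
  dim : finrank F E = e
  inv : Inv y E
  inv' : Inv y C
  fix : ∀ v ∈ C, z v = v
  irr : ∀ W ≤ E, Inv z W → W = ⊥ ∨ W = E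
  fpf : ∀ v ∈ E, z v = v → v = 0
  ord : Pq F e (orderOf z)

/-- general position -/
structure GPF (Φ : Frm F V) (x : V ≃ₗ[F] V) (E A A' : Submodule F V) : Prop where
  disj : Disjoint E ((A ⊔ A').map (x : V →ₗ[F] V))
  nd : Φ.NdOn (E ⊔ (A ⊔ A').map (x : V →ₗ[F] V))
  a : ∃ a ∈ A, ∃ b ∈ E, Φ.B (x a) b ≠ 0
  a' : ∃ a ∈ A', ∃ b ∈ E, Φ.B (x a) b ≠ 0
  e : ∃ a ∈ E, ∃ b ∈ E, Φ.B (x a) b ≠ 0

/-- general position, linear case: `V = E ⊕ E' ⊕ C₀` -/
structure GPL (x : V ≃ₗ[F] V) (E E' C₀ : Submodule F V) : Prop where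
  disj : Disjoint E (E'.map (x : V →ₗ[F] V))
  compl : IsCompl (E ⊔ E'.map (x : V →ₗ[F] V)) ((E' ⊔ C₀) ⊓ (E ⊔ C₀).map (x : V →ₗ[F] V))
  a : ∃ a ∈ E', x a ∉ E' ⊔ C₀
  b : ∃ b ∈ E, b ∉ (E ⊔ C₀).map (x : V →ₗ[F] V)
  e : ∃ a ∈ E, x a ∉ E' ⊔ C₀

/-- the number of `y ∈ G` with `P y` -/
noncomputable def cnt (G : Subgroup (V ≃ₗ[F] V)) (P : (V ≃ₗ[F] V) → Prop) : ℕ :=
  Nat.card {y : V ≃ₗ[F] V // y ∈ G ∧ P y}

/-- the short root elements of the symplectic group (characteristic two): `v ↦ v + B(v,s) t + B(v,t) s` -/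
def sr (Φ : Frm F V) (s t : V) : V →ₗ[F] V where
  toFun v := v + Φ.B v s • t + Φ.B v t • s
  map_add' v w := by
    rw [Φ.add_left, Φ.add_left, add_smul, add_smul]
    abel
  map_smul' a v := by
    rw [Φ.smul_left, Φ.smul_left, mul_smul, mul_smul, RingHom.id_apply, smul_add, smul_add]

/-- `H` contains the short root elements of the quadratic form `q` (with polar form `B`) on `W` -/
def HasS (Φ : Frm F V) (q : V → F) (H : Subgroup (V ≃ₗ[F] V)) (W : Submodule F V) : Prop :=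
  (∀ u ∈ W, ∀ w ∈ W, q (u + w) = q u + q w + Φ.B u w) ∧ (∀ (a : F), ∀ w ∈ W, q (a • w) = a ^ 2 * q w) ∧
  ∀ s ∈ W, ∀ t ∈ W, q s = 0 → q t = 0 → Φ.B s t = 0 → ∃ g ∈ H, (g : V →ₗ[F] V) = sr Φ s t

end

end Cfsg.Agent.H141.Ux
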