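import Cfsg.Agent.H141.Ux.Stmts
import Cfsg.Agent.H806.Bs.GenC
import Cfsg.Agent.H24.Bs.S31
import Cfsg.Agent.H450.Bs.GenSU
import Cfsg.Agent.H984.Bs.OmegaGen

/-!
# UX (S5716, unbounded rank): the deterministic part (helper141)

* `ud1 : UK2 → UK4 → UB2 → UD1`;
* `ud2 : UK3 → UB1 → UF1 → UF2 → UD2`.
-/

set_option autoImplicit false
set_option linter.unusedSectionVars false

namespace Cfsg.Agent.H141.Ux

open Module Cfsg.Agent.H847.Bs Cfsg.Agent.LieClassical.OrthCore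
open Cfsg.Agent.H440.Bs (perp mem_perp dec_perp)
open Cfsg Subgroup

theorem E_le_iso {F V : Type*} [Field F] [AddCommGroup V] [Module F V] {Q : QuadraticForm F V} : E Q ≤ (frmQ Q).Iso := by
  intro g hg
  have h : ∀ v, Q (g v) = Q v := mem_O.1 (E_le_O hg)
  refine ⟨fun u v => ?_, h⟩
  change QuadraticMap.polar Q (g u) (g v) = QuadraticMap.polar Q u v
  rw [QuadraticMap.polar, QuadraticMap.polar, ← map_add, h, h, h]

theorem ud1 (hK2 : UK2) (hK4 : UK4) (hB2 : UB2) : UD1 := by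
  intro F V _ _ _ _ _ e d x y z z' E C E' C' hx hy hoe hed h3 hlt hcop h10 hE hPp hE' hgp hirr
  have hcl : closure {x, y} ≤ slV F V := by
    rw [closure_le]
    rintro g (rfl | rfl)
    · exact hx
    · exact hy
  have hxH : x ∈ closure {x, y} := subset_closure (Or.inl rfl)
  have hyH : y ∈ closure {x, y} := subset_closure (Or.inr rfl)
  have hzp : zpowers y ≤ closure {x, y} := by
    rw [zpowers_le]
    exact hyH
  have hz : z ∈ closure {x, y} := hzp hE.mem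
  have hz' : x * z' * x⁻¹ ∈ closure {x, y} := mul_mem (mul_mem hxH (hzp hE'.mem)) (inv_mem hxH)
  have hon := hK4 F V e d x y z z' E C E' C' (closure {x, y}) hy hoe hed h3 hlt hcop h10 hE hPp hE' hgp hz hz'
  obtain ⟨⟨h1, h2, h4, h5⟩, -⟩ := hK2 F V e d x y z z' E C E' C' (by omega) hE hE'
  have hc := hgp.compl
  rw [← h4, ← h5] at hc
  have hW : 3 ≤ finrank F ↥(E ⊔ E'.map (x : V →ₗ[F] V)) := by
    have h6 : finrank F E ≤ finrank F ↥(E ⊔ E'.map (x : V →ₗ[F] V)) := Submodule.finrank_mono le_sup_left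
    rw [hE.dim] at h6
    omega
  refine le_antisymm hcl ?_
  rcases H806.Bs.s30 F V (closure {x, y}) _ _ hcl hirr hc hW hon with h | ⟨D, hD, hD3⟩
  · exact h
  · obtain ⟨a, ha, hxa⟩ := hgp.e
    rw [← h4] at hxa
    exact absurd hD3 (hB2 F V e x y z E C hE hPp ⟨a, ha, hxa⟩ hirr D hD)

theorem ud2 (hK3 : UK3) (hB1 : UB1) (hF1 : UF1) (hF2 : UF2) : UD2 := by
  intro F V _ _ _ _ _ Φ G e d x y z z' E A A' h hirr hcom
  have hGI : G ≤ Φ.Iso := by
    obtain ⟨N, t, hKl⟩ := h.kl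
    rcases hKl with ⟨-, rfl, -⟩ | ⟨r, -, rfl, -⟩ | ⟨Q, -, rfl, rfl, -⟩
    · exact le_rfl
    · exact inf_le_left
    · exact E_le_iso
  have hN : Φ.Nd := by
    obtain ⟨N, t, hKl⟩ := h.kl
    rcases hKl with ⟨h1, -⟩ | ⟨r, h1, -⟩ | ⟨Q, h1, rfl, -⟩
    · exact h1.nd
    · exact h1.nd
    · exact h1
  have hcl : closure {x, y} ≤ G := by
    rw [closure_le]
    rintro g (rfl | rfl)
    · exact h.hx
    · exact h.hy
  have hxH : x ∈ closure {x, y} := subset_closure (Or.inl rfl)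
  have hyH : y ∈ closure {x, y} := subset_closure (Or.inr rfl)
  have hzp : zpowers y ≤ closure {x, y} := by
    rw [zpowers_le]
    exact hyH
  have hz : z ∈ closure {x, y} := hzp h.sE.mem
  have hz' : x * z' * x⁻¹ ∈ closure {x, y} := mul_mem (mul_mem hxH (hzp h.sA.mem)) (inv_mem hxH)
  set W := E ⊔ (A ⊔ A').map (x : V →ₗ[F] V) with hWdef
  obtain ⟨k1, k2, k3, k4⟩ := hK3 F V Φ G e d x y z z' E A A' W (closure {x, y}) h hWdef hz hz'
  have hW : e + 2 * d ≤ finrank F W := by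
    have h6 : finrank F ↥(E ⊔ (A ⊔ A').map (x : V →ₗ[F] V)) = finrank F E + finrank F ↥((A ⊔ A').map (x : V →ₗ[F] V)) := by
      have h7 := Submodule.finrank_sup_add_finrank_inf_eq E ((A ⊔ A').map (x : V →ₗ[F] V))
      rw [h.gp.disj.eq_bot, finrank_bot] at h7
      omega
    have h8 : finrank F ↥((A ⊔ A').map (x : V →ₗ[F] V)) = finrank F ↥(A ⊔ A') := LinearEquiv.finrank_map_eq x _
    have h9 := Submodule.finrank_sup_add_finrank_inf_eq A A'
    rw [h.sA.disj.eq_bot, finrank_bot, h.sA.dim, h.sA.dim'] at h9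
    rw [hWdef, h6, h8, h.sE.dim]
    omega
  have hpos := h.pos
  have hten := h.ten
  have hdec : Φ.Dec W (perp Φ W) := dec_perp Φ hN h.gp.nd
  have noB : ∀ D : Submodule F V, Blk Φ (closure {x, y}) D → ¬ 3 ≤ finrank F D :=
    hB1 F V Φ e hN x (hGI h.hx) y (hGI h.hy) E z h.sE h.gp.e hirr
  refine le_antisymm hcl ?_
  obtain ⟨N, t, hKl⟩ := h.kl
  rcases hKl with ⟨hsp, hG, -⟩ | ⟨r, hher, hG, -⟩ | ⟨Q, hQ, hΦ, hG, -⟩
  · rw [hG] at hcl ⊢
    by_cases h2 : (2 : F) = 0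
    · obtain ⟨q, hq⟩ := k4 hsp h2
      rcases hF1 F V Φ q (closure {x, y}) W hsp h2 hcl hirr h.gp.nd (by omega) hq with ⟨Q, hpol, hE⟩ | ⟨D, hD, hD3⟩
      · rcases hF2 F V Φ Q (closure {x, y}) hsp h2 (by
          have := Submodule.finrank_le W
          omega) hcl hpol hE with h5 | h5
        · exact absurd ⟨Q, hpol, fun v => h5 x hxH v, fun v => h5 y hyH v⟩ (hcom hsp h2)
        · rw [h5]
      · exact absurd hD3 (noB D hD)
    · rcases H24.Bs.s31 F V Φ (closure {x, y}) W (perp Φ W) hsp hcl hirr hdec (by omega) (k1 hsp h2) with h5 | ⟨D, hD, hD3⟩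
      · exact h5
      · exact absurd (by omega) (noB D hD)
  · rw [hG] at hcl ⊢
    rcases H450.Bs.gen_su' hher hcl hirr hdec (by omega) (k2 r hher) with h5 | ⟨D, hD, hD3⟩
    · exact h5
    · exact absurd (by omega) (noB D hD)
  · subst hΦ
    rw [hG] at hcl ⊢
    rcases H984.Bs.gen_omega hQ (hcl.trans E_le_O) hirr (W₀ := W) h.gp.nd (by omega) (k3 Q rfl) with h5 | ⟨D, hD, hD3⟩
    · exact h5
    · exact absurd (by omega) (noB D hD)

end Cfsg.Agent.H141.Ux
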